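import Cfsg.Prelude.Def_Sporadic_a

/-! Binary codes of length 24, dimension 12 and minimum weight at least 8: the perfect-code
argument, the Steiner system of weight-8 words, spanning by octads. -/

set_option autoImplicit false

namespace CfsgLib.AbstractGolay

open Finset Cfsg

abbrev V := Fin 24 → ZMod 2

/-- Support of a word. -/
def supp (u : V) : Finset (Fin 24) := univ.filter fun i => u i ≠ 0

/-- Characteristic word of a set. -/
def chi (A : Finset (Fin 24)) : V := fun i => if i ∈ A then 1 else 0

theorem mem_supp {u : V} {i : Fin 24} : i ∈ supp u ↔ u i ≠ 0 := by simp [supp]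

theorem supp_chi (A : Finset (Fin 24)) : supp (chi A) = A := by
  ext i; by_cases h : i ∈ A <;> simp [supp, chi, h]

theorem norm_eq (u : V) : hammingNorm u = (supp u).card := rfl

theorem supp_sub (u v : V) : supp (u - v) = symmDiff (supp u) (supp v) := by
  ext i
  simp only [mem_supp, mem_symmDiff, Pi.sub_apply]
  generalize u i = a; generalize v i = b
  revert a b; decide

theorem supp_inj {u v : V} (h : supp u = supp v) : u = v := by
  funext i
  have := Finset.ext_iff.mp h i
  simp only [mem_supp] at this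
  revert this
  generalize u i = a; generalize v i = b
  revert a b; decide

theorem sum_mul_eq (u v : V) : ∑ i, u i * v i = ((supp u ∩ supp v).card : ZMod 2) := by
  rw [show supp u ∩ supp v = univ.filter fun i => u i ≠ 0 ∧ v i ≠ 0 by ext i; simp [supp],
    ← sum_boole]
  refine sum_congr rfl fun i _ => ?_
  generalize u i = a; generalize v i = b
  revert a b; decide

/-- The representatives used for a puncture at `i`. -/
def near (i : Fin 24) : Finset (Finset (Fin 24)) :=
  ((range 4).biUnion fun j => (univ.erase i).powersetCard j) ∪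
    ((range 4).biUnion fun j => (univ.erase i).powersetCard j).image (insert i)

theorem mem_near {i : Fin 24} {A : Finset (Fin 24)} : A ∈ near i ↔ (A.erase i).card ≤ 3 := by
  simp only [near, mem_union, mem_image, mem_biUnion, mem_range, mem_powersetCard]
  constructor
  · rintro (⟨j, hj, hA, hc⟩ | ⟨B, ⟨j, hj, hB, hc⟩, rfl⟩)
    · have := card_erase_le (s := A) (a := i); omega
    · have hi : i ∉ B := fun h => (mem_erase.mp (hB h)).1 rfl
      rw [erase_insert hi]; omega
  · intro h
    by_cases hi : i ∈ A
    · exact Or.inr ⟨A.erase i, ⟨_, by omega, erase_subset_erase i (subset_univ A), rfl⟩,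
        insert_erase hi⟩
    · rw [erase_eq_of_notMem hi] at h
      exact Or.inl ⟨A.card, by omega, fun x hx => mem_erase.mpr ⟨fun e => hi (e ▸ hx), mem_univ x⟩, rfl⟩

theorem card_near (i : Fin 24) : (near i).card = 4096 := by
  set P := (range 4).biUnion fun j => (univ.erase i).powersetCard j with hP
  have hPc : P.card = 2048 := by
    rw [hP, card_biUnion]
    · simp [card_powersetCard, card_erase_of_mem (mem_univ i), sum_range_succ, Nat.choose]
    · intro a _ b _ hne
      refine disjoint_left.mpr fun s ha hb => hne ?_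
      rw [← (mem_powersetCard.mp ha).2, ← (mem_powersetCard.mp hb).2]
  have hPi : ∀ A ∈ P, i ∉ A := by
    intro A hA h
    obtain ⟨j, -, hj⟩ := mem_biUnion.mp hA
    exact (mem_erase.mp ((mem_powersetCard.mp hj).1 h)).1 rfl
  rw [show near i = P ∪ P.image (insert i) from rfl, card_union_of_disjoint, card_image_of_injOn]
  · omega
  · intro A hA B hB h
    have := congrArg (Finset.erase · i) h
    simpa [erase_insert (hPi A hA), erase_insert (hPi B hB)] using this
  · refine disjoint_left.mpr fun A hA hA' => ?_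
    obtain ⟨B, -, rfl⟩ := mem_image.mp hA'
    exact hPi _ hA (mem_insert_self i B)

variable {C : Submodule (ZMod 2) V}

/-- A word of the code of weight below 8 is zero. -/
theorem eq_zero_of_lt (hmin : ∀ w ∈ C, w ≠ 0 → 8 ≤ hammingNorm w) {w : V} (hw : w ∈ C)
    (h : (supp w).card < 8) : w = 0 := by
  by_contra hne
  have := hmin w hw hne
  rw [norm_eq] at this
  omega

/-- Every coset meets the words with at most three ones outside `i`. -/
theorem perfect (hdim : Module.finrank (ZMod 2) C = 12)
    (hmin : ∀ w ∈ C, w ≠ 0 → 8 ≤ hammingNorm w) (i : Fin 24) (w : V) :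
    ∃ u : V, u - w ∈ C ∧ ((supp u).erase i).card ≤ 3 := by
  classical
  let f : near i → V ⧸ C := fun A => Submodule.Quotient.mk (chi A.1)
  have hinj : Function.Injective f := by
    intro A B h
    have hd : chi A.1 - chi B.1 ∈ C := (Submodule.Quotient.eq C).mp h
    have hz := eq_zero_of_lt hmin hd ?_
    · apply Subtype.ext
      rw [← supp_chi A.1, ← supp_chi B.1, sub_eq_zero.mp hz]
    · rw [supp_sub, supp_chi, supp_chi]
      have hA := mem_near.mp A.2
      have hB := mem_near.mp B.2
      have hsub : symmDiff A.1 B.1 ⊆ insert i (A.1.erase i ∪ B.1.erase i) := by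
        intro x hx
        rw [mem_symmDiff] at hx
        by_cases hxi : x = i
        · exact mem_insert.mpr (Or.inl hxi)
        · refine mem_insert.mpr (Or.inr ?_)
          simp only [mem_union, mem_erase]; tauto
      have := card_le_card hsub
      have := card_insert_le i (A.1.erase i ∪ B.1.erase i)
      have := card_union_le (A.1.erase i) (B.1.erase i)
      omega
  have hcard : Nat.card (V ⧸ C) = 4096 := by
    have h := Submodule.finrank_quotient_add_finrank C
    rw [hdim, Module.finrank_fintype_fun_eq_card, Fintype.card_fin] at h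
    rw [Module.natCard_eq_pow_finrank (K := ZMod 2) (V := V ⧸ C), Nat.card_zmod,
      show Module.finrank (ZMod 2) (V ⧸ C) = 12 by omega]
    norm_num
  have hbij := hinj.bijective_of_nat_card_le (by rw [hcard, Nat.card_eq_fintype_card,
    Fintype.card_coe, card_near])
  obtain ⟨A, hA⟩ := hbij.2 (Submodule.Quotient.mk w)
  exact ⟨chi A.1, (Submodule.Quotient.eq C).mp hA, by rw [supp_chi]; exact mem_near.mp A.2⟩

/-- Every five points lie in the support of exactly one word of weight 8. -/
theorem exists_octad (hdim : Module.finrank (ZMod 2) C = 12)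
    (hmin : ∀ w ∈ C, w ≠ 0 → 8 ≤ hammingNorm w) (s : Finset (Fin 24)) (hs : s.card = 5) :
    ∃ c ∈ C, (supp c).card = 8 ∧ s ⊆ supp c := by
  obtain ⟨i, hi⟩ : s.Nonempty := card_pos.mp (by omega)
  obtain ⟨u, huC, hu⟩ := perfect hdim hmin i (chi (s.erase i))
  refine ⟨u - chi (s.erase i), huC, ?_⟩
  have h4 : (s.erase i).card = 4 := by rw [card_erase_of_mem hi]; omega
  have hne : u - chi (s.erase i) ≠ 0 := by
    intro h
    rw [sub_eq_zero] at h
    rw [h, supp_chi, erase_idem] at hu
    omega
  have h8 : 8 ≤ (supp (u - chi (s.erase i))).card := hmin _ huC hne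
  rw [supp_sub, supp_chi] at h8 ⊢
  set X := (supp u).erase i
  set Y := s.erase i
  have hsub : symmDiff (supp u) Y ⊆ insert i (X ∪ Y) := by
    intro x hx
    rw [mem_symmDiff] at hx
    by_cases hxi : x = i
    · exact mem_insert.mpr (Or.inl hxi)
    · refine mem_insert.mpr (Or.inr ?_)
      simp only [X, mem_union, mem_erase]; tauto
  have h1 := card_le_card hsub
  have h2 := card_insert_le i (X ∪ Y)
  have h3 := card_union_le X Y
  have heq : symmDiff (supp u) Y = insert i (X ∪ Y) := eq_of_subset_of_card_le hsub (by omega)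
  refine ⟨by omega, fun x hx => ?_⟩
  rw [heq]
  by_cases hxi : x = i
  · exact mem_insert.mpr (Or.inl hxi)
  · exact mem_insert.mpr (Or.inr (mem_union_right _ (mem_erase.mpr ⟨hxi, hx⟩)))

theorem octad_unique (hmin : ∀ w ∈ C, w ≠ 0 → 8 ≤ hammingNorm w) (s : Finset (Fin 24))
    (hs : s.card = 5) {c c' : V} (hc : c ∈ C) (hc' : c' ∈ C) (h8 : (supp c).card = 8)
    (h8' : (supp c').card = 8) (hsc : s ⊆ supp c) (hsc' : s ⊆ supp c') : c = c' := by
  refine sub_eq_zero.mp (eq_zero_of_lt hmin (C.sub_mem hc hc') ?_)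
  rw [supp_sub]
  have hsub : symmDiff (supp c) (supp c') ⊆ (supp c \ s) ∪ (supp c' \ s) := by
    intro x hx
    rw [mem_symmDiff] at hx
    have h1 := @hsc x
    have h2 := @hsc' x
    simp only [mem_union, mem_sdiff]; tauto
  have := card_le_card hsub
  have := card_union_le (supp c \ s) (supp c' \ s)
  rw [card_sdiff_of_subset hsc, card_sdiff_of_subset hsc'] at this
  omega

theorem isSteiner (hdim : Module.finrank (ZMod 2) C = 12)
    (hmin : ∀ w ∈ C, w ≠ 0 → 8 ≤ hammingNorm w) :
    IsSteinerSystem 5 8 (wordsOfWeight (C : Set V) 8) := by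
  refine ⟨fun b hb => hb.2, fun s hs => ?_⟩
  obtain ⟨c, hc, h8, hsc⟩ := exists_octad hdim hmin s hs
  refine ⟨supp c, ⟨⟨⟨c, hc, rfl⟩, h8⟩, hsc⟩, ?_⟩
  rintro b ⟨⟨⟨c', hc', rfl⟩, h8'⟩, hsc'⟩
  exact congrArg supp (octad_unique hmin s hs hc' hc h8' h8 hsc' hsc)

/-- Descent: every nonzero word is shortened by adding some word of weight 8. -/
theorem descent (hdim : Module.finrank (ZMod 2) C = 12)
    (hmin : ∀ w ∈ C, w ≠ 0 → 8 ≤ hammingNorm w) {w : V} (hw : w ∈ C) (hne : w ≠ 0) :
    ∃ c ∈ C, (supp c).card = 8 ∧ (supp (w - c)).card < (supp w).card ∧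
      (supp (w - c)).card + 2 * (supp w ∩ supp c).card = (supp w).card + 8 := by
  have h8 : 8 ≤ (supp w).card := hmin w hw hne
  obtain ⟨s, hsub, hs⟩ := exists_subset_card_eq (s := supp w) (n := 5) (by omega)
  obtain ⟨c, hc, hc8, hsc⟩ := exists_octad hdim hmin s hs
  refine ⟨c, hc, hc8, ?_⟩
  have hi : 5 ≤ (supp w ∩ supp c).card := hs ▸ card_le_card (subset_inter hsub hsc)
  have h : (supp (w - c)).card + 2 * (supp w ∩ supp c).card = (supp w).card + 8 := by
    rw [supp_sub, ← hc8]
    have h1 := card_union_add_card_inter (supp w) (supp c)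
    have h2 : (symmDiff (supp w) (supp c)).card + (supp w ∩ supp c).card
        = (supp w ∪ supp c).card := by
      rw [← card_union_of_disjoint]
      · congr 1; ext x; simp only [mem_union, mem_symmDiff, mem_inter]; tauto
      · exact disjoint_left.mpr fun x h1 h2 => by
          simp only [mem_symmDiff] at h1; simp only [mem_inter] at h2; tauto
    omega
  exact ⟨by omega, h⟩

theorem span_octads (hdim : Module.finrank (ZMod 2) C = 12)
    (hmin : ∀ w ∈ C, w ≠ 0 → 8 ≤ hammingNorm w) :
    Submodule.span (ZMod 2) {w : V | w ∈ C ∧ hammingNorm w = 8} = C := by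
  refine le_antisymm (Submodule.span_le.mpr fun w hw => hw.1) fun w hw => ?_
  induction hn : (supp w).card using Nat.strong_induction_on generalizing w with
  | _ n ih =>
    by_cases hne : w = 0
    · rw [hne]; exact Submodule.zero_mem _
    obtain ⟨c, hc, h8, hlt, -⟩ := descent hdim hmin hw hne
    have h1 := ih _ (hn ▸ hlt) (w := w - c) (C.sub_mem hw hc) rfl
    have h2 : c ∈ Submodule.span (ZMod 2) {w : V | w ∈ C ∧ hammingNorm w = 8} :=
      Submodule.subset_span ⟨hc, h8⟩
    simpa using Submodule.add_mem _ h1 h2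

theorem doubly_even (hdim : Module.finrank (ZMod 2) C = 12)
    (horth : ∀ v ∈ C, ∀ w ∈ C, ∑ i, v i * w i = 0)
    (hmin : ∀ w ∈ C, w ≠ 0 → 8 ≤ hammingNorm w) {w : V} (hw : w ∈ C) : 4 ∣ (supp w).card := by
  induction hn : (supp w).card using Nat.strong_induction_on generalizing w with
  | _ n ih =>
    by_cases hne : w = 0
    · subst hne; simp [supp] at hn; simp [← hn]
    obtain ⟨c, hc, h8, hlt, heq⟩ := descent hdim hmin hw hne
    have h4 := ih _ (hn ▸ hlt) (w := w - c) (C.sub_mem hw hc) rfl
    have hev := horth w hw c hc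
    rw [sum_mul_eq, ZMod.natCast_eq_zero_iff_even] at hev
    obtain ⟨m, hm⟩ := hev
    omega

/-- Cosets: a unique word of weight at most 3 or six disjoint words of weight 4. -/
theorem coset_leaders (hdim : Module.finrank (ZMod 2) C = 12)
    (hmin : ∀ w ∈ C, w ≠ 0 → 8 ≤ hammingNorm w) (w : V) :
    (∃ u : V, {u : V | u - w ∈ C ∧ hammingNorm u ≤ 4} = {u} ∧ hammingNorm u ≤ 3) ∨
      ({u : V | u - w ∈ C ∧ hammingNorm u ≤ 4}.ncard = 6 ∧
        ∀ u ∈ {u : V | u - w ∈ C ∧ hammingNorm u ≤ 4}, hammingNorm u = 4 ∧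
          ∀ u' ∈ {u : V | u - w ∈ C ∧ hammingNorm u ≤ 4}, u ≠ u' →
            Disjoint (supp u) (supp u')) := by
  classical
  set U : Set V := {u : V | u - w ∈ C ∧ hammingNorm u ≤ 4}
  have hsum : ∀ u ∈ U, ∀ v ∈ U, u ≠ v → 8 ≤ (supp u).card + (supp v).card ∧
      ((supp u).card + (supp v).card = 8 → Disjoint (supp u) (supp v)) := by
    intro u hu v hv hne
    have hd : u - v ∈ C := by simpa using C.sub_mem hu.1 hv.1
    have h8 : 8 ≤ (supp (u - v)).card := hmin _ hd (sub_ne_zero.mpr hne)
    rw [supp_sub] at h8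
    have h1 : symmDiff (supp u) (supp v) ⊆ supp u ∪ supp v := symmDiff_le_sup
    have h2 := card_le_card h1
    have h3 := card_union_add_card_inter (supp u) (supp v)
    refine ⟨by omega, fun h => ?_⟩
    rw [disjoint_iff_inter_eq_empty, ← card_eq_zero]
    omega
  by_cases h3 : ∃ u ∈ U, hammingNorm u ≤ 3
  · obtain ⟨u, hu, hu3⟩ := h3
    refine Or.inl ⟨u, Set.eq_singleton_iff_unique_mem.mpr ⟨hu, fun v hv => ?_⟩, hu3⟩
    by_contra hne
    have h := (hsum u hu v hv (Ne.symm hne)).1
    have hv4 : hammingNorm v ≤ 4 := hv.2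
    rw [norm_eq] at hv4 hu3
    omega
  · push Not at h3
    have h4 : ∀ u ∈ U, (supp u).card = 4 := fun u hu => le_antisymm hu.2 (h3 u hu)
    have hdisj : ∀ u ∈ U, ∀ v ∈ U, u ≠ v → Disjoint (supp u) (supp v) := fun u hu v hv hne =>
      (hsum u hu v hv hne).2 (by rw [h4 u hu, h4 v hv])
    refine Or.inr ⟨?_, fun u hu => ⟨h4 u hu, hdisj u hu⟩⟩
    have hcover : (univ : Finset (Fin 24)) = U.toFinset.biUnion supp := by
      ext i
      simp only [mem_univ, true_iff, mem_biUnion, Set.mem_toFinset]
      obtain ⟨u, huC, hu⟩ := perfect hdim hmin i w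
      have hu4 : (supp u).card ≤ 4 := by
        have := card_le_card (s := supp u) (t := insert i ((supp u).erase i)) (by
          intro x hx; by_cases h : x = i <;> simp [h, hx])
        have := card_insert_le i ((supp u).erase i)
        omega
      refine ⟨u, ⟨huC, hu4⟩, ?_⟩
      by_contra hi
      rw [erase_eq_of_notMem hi] at hu
      have := h3 u ⟨huC, hu4⟩
      rw [norm_eq] at this
      omega
    have hc := congrArg Finset.card hcover
    rw [card_univ, Fintype.card_fin, card_biUnion (fun u hu v hv hne =>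
      hdisj u (by simpa using hu) v (by simpa using hv) hne),
      sum_congr rfl (g := fun _ => 4) (fun u hu => h4 u (by simpa using hu)), sum_const,
      smul_eq_mul] at hc
    rw [Set.ncard_eq_toFinset_card']
    omega

end CfsgLib.AbstractGolay
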