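import Cfsg.Prelude.Def_Sporadic_a

/-! Double counting in Steiner systems. -/

set_option autoImplicit false

namespace CfsgLib.Design

open Finset Cfsg

variable {α : Type*} [Fintype α] [DecidableEq α] {t k : ℕ} {B : Set (Finset α)}

/-- The blocks as a finset. -/
noncomputable def blocksFinset (B : Set (Finset α)) : Finset (Finset α) :=
  (Set.toFinite B).toFinset

@[simp] theorem mem_blocksFinset {B : Set (Finset α)} {b : Finset α} :
    b ∈ blocksFinset B ↔ b ∈ B := Set.Finite.mem_toFinset _

theorem ncard_eq_card_filter (B : Set (Finset α)) (p : Finset α → Prop) [DecidablePred p] :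
    {b : Finset α | b ∈ B ∧ p b}.ncard = ((blocksFinset B).filter p).card := by
  rw [← Set.ncard_coe_finset]
  congr 1
  ext b; simp

/-- The number of blocks through a set of `i ≤ t` points. -/
theorem steiner_lambda (hB : IsSteinerSystem t k B) (A : Finset α) (hA : A.card ≤ t) :
    ((blocksFinset B).filter (A ⊆ ·)).card * (k - A.card).choose (t - A.card)
      = (Fintype.card α - A.card).choose (t - A.card) := by
  classical
  set F := (blocksFinset B).filter (A ⊆ ·)
  have hdisj : (univ \ A).powersetCard (t - A.card)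
      = F.biUnion (fun b => (b \ A).powersetCard (t - A.card)) := by
    ext s
    simp only [mem_powersetCard, mem_biUnion, F, mem_filter, mem_blocksFinset]
    constructor
    · rintro ⟨hs, hsc⟩
      have hd : Disjoint A s := disjoint_left.mpr fun x hx hxs => (mem_sdiff.mp (hs hxs)).2 hx
      obtain ⟨b, ⟨hb, hsub⟩, -⟩ := hB.2 (A ∪ s) (by rw [card_union_of_disjoint hd]; omega)
      exact ⟨b, ⟨hb, subset_union_left.trans hsub⟩,
        fun x hx => mem_sdiff.mpr ⟨hsub (mem_union_right _ hx), (mem_sdiff.mp (hs hx)).2⟩, hsc⟩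
    · rintro ⟨b, -, hs, hsc⟩
      exact ⟨fun x hx => mem_sdiff.mpr ⟨mem_univ _, (mem_sdiff.mp (hs hx)).2⟩, hsc⟩
  have hpd : Set.PairwiseDisjoint (↑F : Set (Finset α))
      (fun b => (b \ A).powersetCard (t - A.card)) := by
    intro b hb c hc hne
    refine disjoint_left.mpr fun s hsb hsc => hne ?_
    simp only [mem_powersetCard] at hsb hsc
    simp only [F, mem_coe, mem_filter, mem_blocksFinset] at hb hc
    have hd : Disjoint A s := disjoint_left.mpr fun x hx hxs => (mem_sdiff.mp (hsb.1 hxs)).2 hx
    refine (hB.2 (A ∪ s) (by rw [card_union_of_disjoint hd]; omega)).unique ⟨hb.1, ?_⟩ ⟨hc.1, ?_⟩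
    · exact union_subset hb.2 (hsb.1.trans sdiff_subset)
    · exact union_subset hc.2 (hsc.1.trans sdiff_subset)
  have h := congrArg Finset.card hdisj
  rw [card_biUnion hpd, card_powersetCard, card_sdiff_of_subset (subset_univ A), card_univ] at h
  rw [h]
  rw [Finset.sum_congr rfl (g := fun _ => (k - A.card).choose (t - A.card)) ?_]
  · simp [sum_const]
  · intro b hb
    simp only [F, mem_filter, mem_blocksFinset] at hb
    rw [card_powersetCard, card_sdiff_of_subset hb.2, hB.1 b hb.1]

/-- Double counting of the `j`-subsets of `Y` lying in blocks. -/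
theorem sum_choose_inter (Y : Finset α) (j : ℕ) (l : ℕ)
    (hl : ∀ A : Finset α, A.card = j → ((blocksFinset B).filter (A ⊆ ·)).card = l) :
    ∑ b ∈ blocksFinset B, (b ∩ Y).card.choose j = Y.card.choose j * l := by
  classical
  have h : ∀ b : Finset α, (b ∩ Y).card.choose j
      = ∑ A ∈ Y.powersetCard j, if A ⊆ b then 1 else 0 := by
    intro b
    rw [sum_boole, ← card_powersetCard]
    simp only [Nat.cast_id]
    congr 1
    ext A
    simp only [mem_powersetCard, mem_filter, subset_inter_iff]
    tauto
  rw [sum_congr rfl (fun b _ => h b), sum_comm,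
    sum_congr rfl (g := fun _ => l) (fun A hA => by
      rw [sum_boole, Nat.cast_id]; exact hl A (mem_powersetCard.mp hA).2),
    sum_const, card_powersetCard, smul_eq_mul]

end CfsgLib.Design
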